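import Cfsg.Agent.H643.Sd.Def
import Cfsg.Agent.H29.TitsExt
import Cfsg.Agent.H989.TwoCSpor
import Cfsg.Agent.H601.OddDeg.Block

/-!
# `[S4579, TITS]` : the row of the Tits group (helper829)

The character of degree `27` of helper29 (`H29/TitsExt`) is irreducible of odd degree, hence in the principal
`2`-block, invariant under all automorphisms, and takes the value `i` at `z₀ z₁ z₃ z₇ z₄`.
-/

set_option autoImplicit false

namespace Cfsg.Agent.H829.Sd.Tits

open Cfsg Cfsg.Agent.H29.TitsMat Cfsg.Agent.H29.TitsHom Cfsg.Agent.H29.TitsExt
  Cfsg.Agent.Omega.TitsIso.TitsSideRel Cfsg.Agent.Omega.TitsIso.TitsSide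

/-- a matrix -/
def w1 : ℕ := 0x70000000000000000000000000700000000000000000000000000000600000000000000000000000008000000000000000000000000000080000000000000000000000000006000000000000000000000000000600000000000000000000000000080000000000000000000000000000000600000000000000000000000000070000000000000000000000000006000000000000000000000000000500000000000000000006000000000000000000000000000500000000000000000000000000080000000000000000000000000005000000000000000000000000000000000600000000000000000000000000070000000000000000000000080000000000000000000000000007000000000000000000000000000000060000000000000000000000000005000000000000000000000006000000000000000000000000000700000000000000000000000000000500000000000000000000000000070000000000000000000000000007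

/-- a matrix -/
def w2 : ℕ := 0x411124124344333200000000000122213413211224300000000000344431233211224300000000000122231233233222100000000000211322322342311200000000000211344144142131200000000000144233431213242300000000000211322324124133400000000000324233211231422300000000000431322144142313400000000000124413231433224300000000000124431413233444300000000000213144324142313400000000000213122142342133400000000000231142122122333200000000000342231411433224300000000000000000000000000000000000800000000000000000000000000070000000000000000000000080000000000000000000000000007000000000000000000060000000000000000000000000005000000000000000000000000000008000000000000000000000000000700000000000000000000000700000000000000000000000000070000000000000000000000000000000005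

/-- a matrix -/
def w3 : ℕ := 0x20303304443130040020410302404020031132420001201001403202040011132420003403003403030404403332420010030120201404004404223110003400340102030420034241330030013003102020310021312440020042002203404004402441330003400340304040110023112220040022002203202004404241110001200340304010204403314420030010120403202020033332240003401001403404002204241110003400120304030440014223330030011001304303030042221130004102002302030402203314420010030340403000000000000008000000000000000000000000000000000000050341322410000000024321323000341344230000000024323141000143342430000000044341143000432213140000000033232214000412411340000000013212434000341322410000000042143141000143324210000000022121143000432231320000000011412214000000000000000000500000000000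

theorem k_w1 : chk d01 z3 w1 = true := by decide +kernel

theorem k_w2 : chk w1 z7 w2 = true := by decide +kernel

theorem k_w3 : chk w2 z4 w3 = true := by decide +kernel

/-- the diagonal of `w3` -/
theorem diag_w3 : ∑ i : Fin 27, gs (nib w3 (27 * i + i)) = ⟨0, 4⟩ := by decide +kernel

theorem trace_GM (a : ℕ) : Matrix.trace (GM phi a) = (4 : ℂ)⁻¹ * phi (∑ i : Fin 27, gs (nib a (27 * i + i))) := by
  rw [Matrix.trace, map_sum, Finset.mul_sum]
  exact Finset.sum_congr rfl fun i _ => GM_apply phi a i i

/-- the element with value `i` -/
noncomputable def tt : T := ZC (-1) * ZC 0 * ZC 2 * ZC 6 * ZC 3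

theorem trace_tt {σ : T →* GL (Fin 27) ℂ} (hσ : ∀ i, σ (ZC i) = Zg i) :
    (rep σ).character tt = Complex.I := by
  have h0 : V phi (Zg (-1)) z0 := by
    unfold Zg
    rw [neg_add_cancel]
    exact vz phi 0
  have h1 : V phi (Zg 0) z1 := by
    unfold Zg
    rw [zero_add]
    exact vz phi 1
  have h3 : V phi (Zg 2) z3 := vz phi 3
  have h7 : V phi (Zg 6) z7 := vz phi 7
  have h4 : V phi (Zg 3) z4 := vz phi 4
  have h : V phi (σ tt) w3 := by
    unfold tt
    rw [map_mul, map_mul, map_mul, map_mul, hσ, hσ, hσ, hσ, hσ]
    exact ((((h0.mul h1 k_z0_z1).mul h3 k_w1).mul h7 k_w2).mul h4 k_w3)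
  rw [character_rep, h, trace_GM, diag_w3, phi, GaussianInt.toComplex_def]
  push_cast
  ring

open Cfsg.Agent.ChevalleyStructure.Tits.Main Cfsg.Agent.ChevalleyStructure.Tits.Order
  Cfsg.Agent.ChevalleyStructure.Tits.Final Cfsg.Agent.ChevalleyStructure.Tits.Sat in
/-- Every automorphism of the derived subgroup is induced by an element of `²F₄(2)`. -/
theorem exists_conj (a : MulAut T) : ∃ g : H0, MulAut.conjNormal g = a := by
  have := Omega.TwoF.TitsAut.fin_H0
  have hinj : Function.Injective (MulAut.conjNormal : H0 →* MulAut (commutator H0)) :=
    Omega.TwoF.TitsAut.conj_injective Sat_yH gen_yH card_H0 card_V_yH (yH_ne_one (by norm_num))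
      Omega.TwoF.TitsAut.yH7_sq core H0_result.2.2.1
  exact (bijective_of (commutator ChevalleyStructure.Tits.Order.H0) hinj H0_result.1 (out_le T0_eq_H0.symm)).2 a

open Cfsg.Agent.ChevalleyStructure.Tits.Order in
/-- The character of degree `27`. -/
theorem exists_char_T : ∃ χ : T → ℂ, IsIrrCharacter T χ ∧ χ 1 = 27 ∧ (∀ (a : MulAut T) (t : T), χ (a t) = χ t) ∧
    ∃ t, (χ t).im ≠ 0 := by
  obtain ⟨σ, hσ⟩ := exists_hom
  refine ⟨(rep σ).character, ⟨27, rep σ, irreducible_rep hσ, rfl⟩, ?_, fun a t => ?_, tt, ?_⟩
  · rw [character_rep, map_one, Units.val_one, Matrix.trace_one, Fintype.card_fin]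
    norm_num
  · obtain ⟨g, rfl⟩ := exists_conj a
    rw [character_rep, character_rep]
    exact invariant hσ g t
  · rw [trace_tt hσ, Complex.I_im]
    norm_num

theorem exists_char {S : Type*} [Group S] (h : Cfsg.Lie.IsoTits S) : ∃ χ : S → ℂ, IsIrrCharacter S χ ∧ χ 1 = 27 ∧
    (∀ (a : MulAut S) (t : S), χ (a t) = χ t) ∧ ∃ t, (χ t).im ≠ 0 := by
  obtain ⟨K, hK, ⟨e⟩⟩ := Omega.TwoF.TitsAut.exists_equiv h
  subst hK
  obtain ⟨χ, h1, h2, h3, t, h4⟩ := exists_char_T
  refine ⟨χ ∘ e, Characters.Core.isIrr_comp e.toMonoidHom e.surjective h1, ?_, fun a s => ?_, e.symm t, ?_⟩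
  · rw [Function.comp_apply, map_one, h2]
  · have := h3 ((e.symm.trans a).trans e) (e s)
    simpa using this
  · rwa [Function.comp_apply, e.apply_symm_apply]

/-- **The row of the Tits group.** -/
theorem row_tits {S : Type*} [Group S] [Finite S] (h : Cfsg.Lie.IsoTits S) : H643.Sd.Row S := by
  rintro M hM Q A c f _ _
  obtain ⟨χ, h1, h2, h3, g, h4⟩ := exists_char h
  have hdeg : charDegree χ = 27 := Blocks.Basic.charDegree_of_eq (by rw [h2]; norm_num)
  refine ⟨⟨χ, h1⟩, (H989.TwoCSpor.twoC_tits h).mem_principalBlock hM _ ?_, ?_, fun a _ s => h3 a s, g, h4⟩
  · change ¬ 2 ∣ charDegree χ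
    rw [hdeg]
    norm_num
  · change Odd (charDegree χ)
    rw [hdeg]
    decide

end Cfsg.Agent.H829.Sd.Tits
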